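import Mathlib.CategoryTheory.Abelian.GrothendieckCategory.Subobject
import Mathlib.CategoryTheory.Abelian.GrothendieckCategory.EnoughInjectives
import Mathlib.CategoryTheory.Preadditive.Injective.Basic
import Mathlib.Order.Zorn

/-! # Injectivity from one step extensions, by Zorn's lemma -/

set_option autoImplicit false

universe w v u

open CategoryTheory CategoryTheory.Limits

namespace GrothLib.InjLocal20

variable {C : Type u} [Category.{v} C] [Abelian C] [IsGrothendieckAbelian.{w} C]

/-- A morphism to `F` defined on a subobject of `B`. -/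
structure PExt (B F : C) where
  sub : Subobject B
  hom : (sub : C) ⟶ F

variable {B F : C}

/-- Extension of partially defined morphisms. -/
def PExt.LE (p q : PExt B F) : Prop := ∃ h : p.sub ≤ q.sub, Subobject.ofLE _ _ h ≫ q.hom = p.hom

lemma PExt.le_refl (p : PExt B F) : p.LE p := ⟨_root_.le_refl _, by simp⟩

lemma PExt.le_trans {p q r : PExt B F} (h₁ : p.LE q) (h₂ : q.LE r) : p.LE r := by
  obtain ⟨a, ha⟩ := h₁
  obtain ⟨b, hb⟩ := h₂
  exact ⟨a.trans b, by rw [← Subobject.ofLE_comp_ofLE _ _ _ a b, Category.assoc, hb, ha]⟩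

/-- Chains of partially defined morphisms are bounded. -/
theorem PExt.exists_bound (c : Set (PExt B F)) (hc : IsChain PExt.LE c) (hne : c.Nonempty) :
    ∃ ub : PExt B F, ∀ p ∈ c, p.LE ub := by
  classical
  have htot : ∀ p ∈ c, ∀ q ∈ c, p.LE q ∨ q.LE p := fun p hp q hq => by
    by_cases h : p = q
    · exact Or.inl (h ▸ PExt.le_refl p)
    · exact hc hp hq h
  let e := equivShrink.{w} (Subobject B)
  let J := {s : Shrink.{w} (Subobject B) // ∃ p ∈ c, p.sub = e.symm s}
  let _ : Preorder J := Preorder.lift (fun s : J => e.symm s.1)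
  have hdir : IsDirectedOrder J := ⟨fun a b => by
    obtain ⟨p, hp, hpa⟩ := a.2
    obtain ⟨q, hq, hqb⟩ := b.2
    rcases htot p hp q hq with h | h
    · refine ⟨b, ?_, le_rfl⟩
      change e.symm a.1 ≤ e.symm b.1
      rw [← hpa, ← hqb]
      exact h.1
    · refine ⟨a, le_rfl, ?_⟩
      change e.symm b.1 ≤ e.symm a.1
      rw [← hpa, ← hqb]
      exact h.1⟩
  have : Nonempty J := by
    obtain ⟨p, hp⟩ := hne
    exact ⟨⟨e p.sub, p, hp, (e.symm_apply_apply _).symm⟩⟩
  let G : J ⥤ MonoOver B :=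
    { obj := fun s => MonoOver.mk (e.symm s.1).arrow
      map := fun {s t} h => MonoOver.homMk (Subobject.ofLE _ _ h.le) (Subobject.ofLE_arrow _) }
  let D : J ⥤ C := G ⋙ MonoOver.forget _ ⋙ Over.forget _
  -- the morphism on a stage
  have key : ∀ s : J, ∃ k : (e.symm s.1 : C) ⟶ F, ∀ p ∈ c, ∀ h : p.sub ≤ e.symm s.1,
      Subobject.ofLE _ _ h ≫ k = p.hom := by
    rintro ⟨s, q, hq, hqs⟩
    refine ⟨Subobject.ofLE _ _ hqs.ge ≫ q.hom, fun p hp h => ?_⟩
    rcases htot p hp q hq with ⟨a, ha⟩ | ⟨a, ha⟩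
    · rw [← Category.assoc, Subobject.ofLE_comp_ofLE]
      exact ha
    · rw [← ha, ← Category.assoc, ← Category.assoc, Subobject.ofLE_comp_ofLE,
        Subobject.ofLE_comp_ofLE]
      simp
  choose k hk using key
  have hkk : ∀ {s t : J} (h : s ≤ t), Subobject.ofLE _ _ (show e.symm s.1 ≤ e.symm t.1 from h) ≫ k t = k s := by
    intro s t h
    obtain ⟨p, hp, hps⟩ := s.2
    have : IsIso (Subobject.ofLE p.sub (e.symm s.1) hps.le) :=
      ⟨Subobject.ofLE _ _ hps.ge, by simp, by simp⟩
    rw [← cancel_epi (Subobject.ofLE p.sub (e.symm s.1) hps.le), ← Category.assoc,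
      Subobject.ofLE_comp_ofLE, hk s p hp, hk t p hp]
  let cF : Cocone D := Cocone.mk F
    { app := fun s => k s
      naturality := fun s t h => (hkk h.le).trans (Category.comp_id _).symm }
  let cB : Cocone D := Cocone.mk B
    { app := fun s => (e.symm s.1).arrow
      naturality := fun s t h => (Subobject.ofLE_arrow _).trans (Category.comp_id _).symm }
  have hm : Mono (colimit.desc D cB) :=
    IsGrothendieckAbelian.mono_of_isColimit_monoOver G (colimit.isColimit D) _
      (fun s => colimit.ι_desc cB s)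
  refine ⟨⟨Subobject.mk (colimit.desc D cB),
    (Subobject.underlyingIso (colimit.desc D cB)).hom ≫ colimit.desc D cF⟩, fun p hp => ?_⟩
  let s : J := ⟨e p.sub, p, hp, (e.symm_apply_apply _).symm⟩
  have hs : p.sub ≤ e.symm s.1 := (e.symm_apply_apply _).ge
  let ιs : (e.symm s.1 : C) ⟶ colimit D := colimit.ι D s
  have hι : ιs ≫ colimit.desc D cB = (e.symm s.1).arrow := colimit.ι_desc cB s
  have hιF : ιs ≫ colimit.desc D cF = k s := colimit.ι_desc cF s
  have hle : p.sub ≤ Subobject.mk (colimit.desc D cB) :=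
    hs.trans (Subobject.le_mk_of_comm ιs hι)
  refine ⟨hle, ?_⟩
  have h1 : Subobject.ofLE _ _ hle ≫ (Subobject.underlyingIso (colimit.desc D cB)).hom
      = Subobject.ofLE _ _ hs ≫ ιs := by
    rw [← cancel_mono (colimit.desc D cB), Category.assoc, Category.assoc, hι,
      Subobject.ofLE_arrow, Subobject.underlyingIso_hom_comp_eq_mk, Subobject.ofLE_arrow]
  dsimp only
  rw [← hk s p hp hs, ← hιF, reassoc_of% h1]

/-- `F` is injective as soon as every morphism defined on a proper subobject extends to a strictly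
bigger subobject. -/
theorem injective_of_step (F : C)
    (step : ∀ {P B : C} (m : P ⟶ B) [Mono m] (g : P ⟶ F), ¬ IsIso m →
      ∃ (P' : C) (m' : P' ⟶ B) (t : P ⟶ P') (g' : P' ⟶ F),
        Mono m' ∧ t ≫ m' = m ∧ t ≫ g' = g ∧ ¬ IsIso t) :
    Injective F where
  factors {A B} g i _ := by
    let p₀ : PExt B F := ⟨Subobject.mk i, (Subobject.underlyingIso i).hom ≫ g⟩
    let S := {p : PExt B F // p₀.LE p}
    obtain ⟨⟨p, hp⟩, hmax⟩ : ∃ m : S, ∀ a : S, m.1.LE a.1 → a.1.LE m.1 := by
      have : Nonempty S := ⟨⟨p₀, PExt.le_refl _⟩⟩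
      refine exists_maximal_of_nonempty_chains_bounded (r := fun a b : S => a.1.LE b.1)
        (fun c hc hne => ?_) (fun h₁ h₂ => PExt.le_trans h₁ h₂)
      obtain ⟨ub, hub⟩ := PExt.exists_bound (Subtype.val '' c)
        (hc.image (⟨⟨Subtype.val, Subtype.val_injective⟩, Iff.rfl⟩ :
          (fun a b : S => a.1.LE b.1) ↪r PExt.LE)) (hne.image _)
      obtain ⟨a, ha⟩ := hne
      exact ⟨⟨ub, PExt.le_trans a.2 (hub _ ⟨a, ha, rfl⟩)⟩, fun b hb => hub _ ⟨b, hb, rfl⟩⟩
    have hiso : IsIso p.sub.arrow := by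
      by_contra hn
      obtain ⟨P', m', t, g', hm', htm, htg, ht⟩ := step p.sub.arrow p.hom hn
      let q : PExt B F := ⟨Subobject.mk m', (Subobject.underlyingIso m').hom ≫ g'⟩
      have hle : p.sub ≤ q.sub := Subobject.le_mk_of_comm t htm
      have hofLE : Subobject.ofLE _ _ hle ≫ (Subobject.underlyingIso m').hom = t := by
        rw [← cancel_mono m', Category.assoc, Subobject.underlyingIso_hom_comp_eq_mk,
          Subobject.ofLE_arrow, htm]
      have hpq : p.LE q := ⟨hle, by rw [reassoc_of% hofLE, htg]⟩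
      obtain ⟨hge, -⟩ := hmax ⟨q, PExt.le_trans hp hpq⟩ hpq
      apply ht
      rw [← hofLE]
      have : IsIso (Subobject.ofLE _ _ hle) :=
        ⟨Subobject.ofLE _ _ hge, by simp, by simp⟩
      infer_instance
    obtain ⟨hle, h0⟩ := hp
    refine ⟨inv p.sub.arrow ≫ p.hom, ?_⟩
    have h1 : i = (Subobject.underlyingIso i).inv ≫ Subobject.ofLE _ _ hle ≫ p.sub.arrow := by
      rw [Subobject.ofLE_arrow, Subobject.underlyingIso_arrow]
    rw [h1]
    simp only [Category.assoc, IsIso.hom_inv_id_assoc]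
    rw [h0]
    simp [p₀]

/-- A morphism vanishing on the kernel of `φ` extends along the image of `φ`. -/
theorem exists_factor_image {X Y : C} (φ : X ⟶ Y) {F : C} (ψ : X ⟶ F) (h : kernel.ι φ ≫ ψ = 0) :
    ∃ g : Abelian.image φ ⟶ F, Abelian.factorThruImage φ ≫ g = ψ :=
  ⟨inv (Abelian.coimageImageComparison φ) ≫ cokernel.desc _ ψ h, by
    have e : Abelian.coimage.π φ ≫ Abelian.coimageImageComparison φ = Abelian.factorThruImage φ := by
      rw [← cancel_mono (Abelian.image.ι φ)]
      simp [Abelian.coimage_image_factorisation]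
    rw [← e, Category.assoc, IsIso.hom_inv_id_assoc]
    exact cokernel.π_desc _ _ _⟩

end GrothLib.InjLocal20
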