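import Groth.Agent.Lib.InjLocal20.Zorn
import Groth.Agent.Lib.OX.ExtZeroOpen
import Groth.Agent.Lib.K0Sub.LocFin

/-! # A locally injective sheaf of modules is injective -/

set_option autoImplicit false
set_option maxHeartbeats 400000
set_option backward.isDefEq.respectTransparency.types false

universe u

open CategoryTheory CategoryTheory.Limits AlgebraicGeometry

namespace GrothLib.InjLocal20

variable {X : Scheme.{u}}

theorem injective_of_locally (F : X.Modules)
    (hF : ∀ x : X, ∃ U : X.Opens, x ∈ U ∧ Injective ((Scheme.Modules.restrictFunctor U.ι).obj F)) :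
    Injective F := by
  have : IsGrothendieckAbelian.{u} X.Modules :=
    GrothLib.SheafCoh.isGrothendieckAbelian_sheafOfModules _
  refine injective_of_step.{u} F fun {P B} m hmono g hm => ?_
  obtain ⟨x, hx⟩ : ∃ x : X, ¬ Epi ((OX.stalk x).map m) := by
    by_contra! h
    have : Epi m := (OX.epi_iff m).2 h
    exact hm (isIso_of_mono_of_epi m)
  obtain ⟨U, hxU, hU⟩ := hF x
  let j := U.ι
  let R := Scheme.Modules.restrictFunctor j
  let L := CxOX.extZero j
  let adj : L ⊣ R := CxOX.extZeroAdj j
  let ε : L.obj (R.obj B) ⟶ B := OX.epsZ j B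
  have hεmono : Mono ε := OX.mono_epsZ j B
  let k := pullback.snd m ε
  let h := pullback.fst m ε ≫ g
  have hk : Mono (R.map k) := inferInstance
  let mm : R.obj (L.obj (R.obj B)) ⟶ R.obj F := Injective.factorThru (R.map h) (R.map k)
  have hmm : R.map k ≫ mm = R.map h := Injective.comp_factorThru _ _
  let mh : L.obj (R.obj B) ⟶ F := (adj.homEquiv _ _).symm (adj.unit.app (R.obj B) ≫ mm)
  have hmh : R.map mh = mm := by
    have : IsIso (adj.unit.app (R.obj B)) := by
      have := OX.isIso_extZeroAdj_unit j
      exact inferInstanceAs (IsIso ((CxOX.extZeroAdj j).unit.app _))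
    rw [← cancel_epi (adj.unit.app (R.obj B))]
    refine ((adj.homEquiv_unit _ _ mh).symm).trans ?_
    exact Equiv.apply_symm_apply _ _
  have hd : k ≫ mh = h := by
    rw [← sub_eq_zero, OX.eq_zero_iff]
    intro y
    by_cases hy : y ∈ Set.range j
    · obtain ⟨z, rfl⟩ := hy
      refine OX.stalk_map_zero_of_restrictZero j _ z ?_
      change R.map _ = 0
      rw [Functor.map_sub, Functor.map_comp, hmh, hmm, sub_self]
    · have hz : IsZero ((OX.stalk y).obj (L.obj (R.obj B))) := OX.isZero_stalk_extZero j _ y hy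
      have : Mono ((OX.stalk y).map k) := (OX.mono_iff k).1 inferInstance y
      exact (IsZero.of_mono ((OX.stalk y).map k) hz).eq_of_src _ _
  let φ : P ⊞ L.obj (R.obj B) ⟶ B := biprod.desc m ε
  let ψ : P ⊞ L.obj (R.obj B) ⟶ F := biprod.desc g mh
  have hψ : kernel.ι φ ≫ ψ = 0 := by
    let a := kernel.ι φ ≫ biprod.fst
    let b := kernel.ι φ ≫ biprod.snd
    have hab : a ≫ m = (-b) ≫ ε := by
      rw [Preadditive.neg_comp, ← add_eq_zero_iff_eq_neg]
      have h0 := kernel.condition φ
      simp only [φ, biprod.desc_eq, Preadditive.comp_add] at h0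
      simpa [a, b, Category.assoc] using h0
    let l := pullback.lift a (-b) hab
    have h1 : a ≫ g = (-b) ≫ mh := by
      rw [← pullback.lift_fst a (-b) hab, Category.assoc]
      change l ≫ h = _
      rw [← hd, ← Category.assoc]
      simp only [l, k, pullback.lift_snd]
    simp only [ψ, biprod.desc_eq, Preadditive.comp_add]
    rw [Preadditive.neg_comp, ← add_eq_zero_iff_eq_neg] at h1
    simpa [a, b, Category.assoc] using h1
  obtain ⟨g', hg'⟩ := exists_factor_image φ ψ hψ
  refine ⟨Abelian.image φ, Abelian.image.ι φ, biprod.inl ≫ Abelian.factorThruImage φ, g',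
    inferInstance, ?_, ?_, ?_⟩
  · rw [Category.assoc, Abelian.image.fac]
    simp [φ]
  · rw [Category.assoc, hg']
    simp [ψ]
  · intro ht
    apply hx
    obtain ⟨z, hz⟩ : ∃ z, j z = x := ⟨⟨x, hxU⟩, rfl⟩
    have hεx : Epi ((OX.stalk x).map ε) := by
      subst hz
      have := OX.isIso_stalk_epsZ j B z
      infer_instance
    have hε' : ε = biprod.inr ≫ Abelian.factorThruImage φ ≫ Abelian.image.ι φ := by
      rw [Abelian.image.fac]
      simp [φ]
    rw [hε', ← Category.assoc, Functor.map_comp] at hεx
    have : Epi ((OX.stalk x).map (Abelian.image.ι φ)) :=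
      epi_of_epi ((OX.stalk x).map (biprod.inr ≫ Abelian.factorThruImage φ)) _
    have hm' : m = (biprod.inl ≫ Abelian.factorThruImage φ) ≫ Abelian.image.ι φ := by
      rw [Category.assoc, Abelian.image.fac]
      simp [φ]
    rw [hm', Functor.map_comp]
    have : IsIso ((OX.stalk x).map (biprod.inl ≫ Abelian.factorThruImage φ)) := inferInstance
    infer_instance

end GrothLib.InjLocal20
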